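import Cfsg.Agent.M2W.Z3
import Cfsg.Agent.WfS.Fin
import Cfsg.Agent.WfS.Perm0

/-! The field `home` of the wreath theorem. -/

set_option autoImplicit false
set_option linter.unusedSectionVars false

namespace Cfsg.Agent.M2W

open Cfsg Subgroup Cfsg.Agent.PLocal Cfsg.Agent.PLocal.Amb Cfsg.Agent.Lyons
open Cfsg.Agent.Wr2 (St Tw Fo Oc Sw')
open Cfsg.Agent.Wr3 (MulOn Au)
open scoped commutatorElement

universe v

variable {G : Type*} [Group G] [Finite G] {Y : Type*} [Group Y] [Finite Y] {D : Dt Y}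
  {A : Subgroup G} {ρ : G → Y} {j : Y → G}

namespace Z5

/-- the diagonal map `b ↦ b * (s b s⁻¹)` -/
def χ {B : Subgroup G} {s : G} (c : cj(s, B) ≤ 𝐂[B]) : B →* G :=
  MonoidHom.mk' (fun x => x * (s * x * s⁻¹)) fun a b => by
    simp only [Subgroup.coe_mul]
    rw [mul_assoc (a : G) (s * a * s⁻¹), ← mul_assoc (s * a * s⁻¹),
      ← Wr.mem_C.1 (c (conj_mem_cj s a.2)) b b.2]; group

theorem χ_app {B : Subgroup G} {s : G} (c : cj(s, B) ≤ 𝐂[B]) (b : B) :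
    χ c b = b * (s * b * s⁻¹) := rfl

theorem χ_com {B : Subgroup G} {s : G} (c : cj(s, B) ≤ 𝐂[B]) (ss : s * s = 1) (b : B) :
    χ c b * s = s * χ c b := by
  have e := Wr.mem_C.1 (c (conj_mem_cj s b.2)) b b.2
  have i : s⁻¹ = s := inv_eq_of_mul_eq_one_right ss
  calc χ c b * s = b * (s * b * s⁻¹) * s := rfl
    _ = (s * s) * b * (s⁻¹ * b) := by rw [ss, i]; simp [mul_assoc, ss]
    _ = s * (s * b * s⁻¹ * b) := by group
    _ = _ := by rw [← e]; rfl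

theorem χ_N {B : Subgroup G} {s : G} (c : cj(s, B) ≤ 𝐂[B]) (b : B) : χ c b ∈ 𝐍[B] :=
  mul_mem (le_normalizer b.2) (centralizer_le_normalizer' _ (c (conj_mem_cj s b.2)))

theorem χ_ρ {B : Subgroup G} {s : G} (c : cj(s, B) ≤ 𝐂[B]) {ρ₁ : G → Y} {Y₀ : Subgroup Y}
    (st : St B ρ₁ Y₀) (b : B) : ρ₁ (χ c b) = ρ₁ b := by
  rw [χ_app, st.mul _ (le_normalizer b.2) _ (centralizer_le_normalizer' _ (c (conj_mem_cj s b.2))),
    st.kerC (c (conj_mem_cj s b.2)), mul_one]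

theorem card_le {B P : Subgroup G} {ρ₁ : G → Y} {Y₀ T : Subgroup Y} (st : St B ρ₁ Y₀)
    (hP : P ≤ 𝐍[B]) (hT : ∀ y ∈ T, ∃ x ∈ P, ρ₁ x = y) : Nat.card T ≤ Nat.card P := by
  rw [st.card_img hP]
  exact (card_le_of_le fun y hy => (st.mem_img hP).2 (hT y hy)).trans
    (Nat.le_mul_of_pos_right _ Nat.card_pos)

theorem exists_R {B : Subgroup G} {ρ₁ : G → Y} {Y₀ T : Subgroup Y} (st : St B ρ₁ Y₀)
    (hT : IsSyl 2 T Y₀) : ∃ R ≤ B, IsPGroup 2 R ∧ (∀ x ∈ R, ρ₁ x ∈ T) ∧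
      ∀ y ∈ T, ∃ x ∈ R, ρ₁ x = y := by
  obtain ⟨R, hR⟩ := exists_isSyl 2 B
  obtain ⟨y, hy, e⟩ := hT.exists_cj_eq (st.img_A ▸ st.syl_img hR le_normalizer)
  obtain ⟨a, ha, rfl⟩ := st.sur y hy
  have hR' := hR.cj_of_mem ha
  refine ⟨_, hR'.le, hR'.pgrp, fun x hx => ?_, fun y hy => ?_⟩
  · obtain ⟨x, hx', rfl⟩ := mem_cj_iff_exists.1 hx
    rw [st.conj (le_normalizer ha) (le_normalizer (hR.le hx')), ← e]
    exact conj_mem_cj _ ((st.mem_img (hR.le.trans le_normalizer)).2 ⟨x, hx', rfl⟩)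
  · rw [← e] at hy
    obtain ⟨_, h1, h2⟩ := mem_cj_iff_exists.1 hy
    obtain ⟨x, hx, rfl⟩ := (st.mem_img (hR.le.trans le_normalizer)).1 h1
    exact ⟨_, conj_mem_cj a hx, by rw [st.conj (le_normalizer ha) (le_normalizer (hR.le hx)), h2]⟩

end Z5

open Z5

namespace Fn
variable {X B : Subgroup G} {t : G} {ρ₁ : G → Y} (h : Fn D X A ρ j t B ρ₁)
include h

theorem c12 : cj(t, B) ≤ 𝐂[B] :=
  cj_le_iff_forall.2 fun b hb => Wr.mem_C.2 fun a ha => h.com a ha b hb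
theorem nab : ¬ B ≤ 𝐂[B] := fun e => by
  obtain ⟨a, ha, e1⟩ := h.st₁.sur _ h.F.toBs.zY
  exact h.F.z1 (by rw [← e1, h.st₁.kerC (e ha)])
theorem ne12 : cj(t, B) ≠ B := fun e => h.nab (e.ge.trans h.c12)
/-- copy of `Wr2.Fn.Adec` -/
theorem Adec {a : G} (ha : a ∈ A) : ∃ b ∈ B, b * (t * b * t⁻¹) = a := by
  obtain ⟨b, rfl⟩ := h.st.le_of_sur (B := (χ h.c12).range) (fun y hy => by
    obtain ⟨b, hb, rfl⟩ := h.st₁.sur y hy
    exact ⟨_, mem_inf.2 ⟨(h.dg b hb).1, ⟨b, hb⟩, rfl⟩, (h.dg b hb).2⟩) ha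
  exact ⟨b, b.2, rfl⟩
theorem AB : A ≤ B ⊔ cj(t, B) := fun a ha => by
  obtain ⟨b, hb, rfl⟩ := h.Adec ha
  exact mul_mem (mem_sup_left hb) (mem_sup_right (conj_mem_cj t hb))
/-- `k` centralises `B`, `cj(t, B)`, `A`; `Ktw`; `ne12` -/
theorem k0 {k : G} (hk : k ∈ 𝐂[B]) (k2 : k * k = 1) (e : k * t = t * k) : k = 1 := by
  have hA : k ∈ 𝐂[A] := Wr.mem_C.2 fun a ha => by
    obtain ⟨b, hb, rfl⟩ := h.Adec ha
    have c : Commute k t := e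
    have d : Commute k b := (Wr.mem_C.1 hk b hb).symm
    exact (d.mul_right ((c.mul_right d).mul_right c.inv_right)).symm
  rcases h.toSy.Ktw hA e (Wr2.tw_of_sq k2) with e1 | e1
  · exact e1
  · exact absurd (cj_eq_iff.2 (centralizer_le_normalizer' _ (e1 ▸ hk))) h.ne12
theorem qs {K : Subgroup G} (h1 : K ≤ B) (h2 : B ≤ 𝐍[K]) : K ≤ 𝐂[B] ∨ K = B :=
  (h.F.toBs.qs h.st₁ h2).imp (fun e => (le_inf le_rfl h1).trans e) fun e => le_antisymm h1 e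
/-- `cN` -/
theorem zG1 {x : G} (e : x * t = t * x) : x ∈ WfS.G1 B cj(t, B) := by
  have key : ∀ y, y * t = t * y → y ∈ 𝐍[B] → y ∈ WfS.G1 B cj(t, B) := fun y e1 hy =>
    cj_eq_iff.1 (by rw [cj_sup, ← cj_mul, e1, cj_mul, cj_eq_iff.2 hy])
  have ht : t ∈ WfS.G1 B cj(t, B) := cj_eq_iff.1 (by rw [cj_sup, ← cj_mul, h.tt, cj_one, sup_comm])
  rcases h.cN x e with e2 | e2
  · exact key x e e2.1
  · exact (mul_mem_cancel_right ht).1 (key _ (by rw [← mul_assoc, e]) e2.1)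
/-- the lemma in `WfS/Perm0` (or `Wr2.Fn.perm'`): `G1` permutes the two factors -/
theorem swap {x : G} (hx : x ∈ WfS.G1 B cj(t, B)) (x0 : x ∉ 𝐍[B]) :
    cj(x, B) = cj(t, B) ∧ cj(x, cj(t, B)) = B := by
  have p : ∀ y ∈ WfS.G1 B cj(t, B), cj(y, B) = B ∨ cj(y, B) = cj(t, B) := fun y hy =>
    WfS.perm0 h.tt rfl h.c12 h.st₁.perf (fun e => h.nab (e.le.trans bot_le))
      (fun K h1 h2 => h.qs h1 h2) hy
  have e1 := (p x hx).resolve_left fun e => x0 (cj_eq_iff.1 e)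
  have e2 := p _ (mul_mem hx (h.zG1 rfl))
  rw [cj_mul] at e2
  exact ⟨e1, e2.resolve_right fun e => h.ne12 (cj_inj.1 (e.trans e1.symm))⟩

theorem home_χ {g : G} (c : cj(g * t * g⁻¹, B) ≤ 𝐂[B]) : (χ c).range = cj(g, A) := by
  have ss : g * t * g⁻¹ * (g * t * g⁻¹) = 1 := Wr.conj_sq h.tt
  have pf : ⁅(χ c).range, (χ c).range⁆ = (χ c).range := by
    rw [MonoidHom.range_eq_map, ← map_commutator, ← _root_.commutator_def, Wr2.comm_top h.st₁.perf]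
  have le : (χ c).range ≤ cj(g, A) := by
    have := h.F.toBs.le_of_inv (N := ((cj(g, A)).comap (χ c)).map B.subtype) h.st₁ fun b hb b2 => by
      refine ⟨⟨b, hb⟩, mem_comap.2 (mem_cj.2 ?_), rfl⟩
      have := h.toSy.res' (P := (χ c).range) (y := g⁻¹) (x := χ c ⟨b, hb⟩) (by
        rintro _ ⟨a, rfl⟩
        calc g⁻¹ * χ c a * g⁻¹⁻¹ * t = g⁻¹ * (χ c a * (g * t * g⁻¹)) * g := by group
          _ = _ := by rw [χ_com c ss]; group) (pf.symm ▸ ⟨_, rfl⟩) (Wr2.tw_of_sq (by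
        rw [← map_mul, show (⟨b, hb⟩ : B) * ⟨b, hb⟩ = 1 from Subtype.ext b2, map_one]))
      rwa [inv_inv] at this
    rintro _ ⟨b, rfl⟩
    obtain ⟨b', hb', e⟩ := this b.2
    rw [← Subtype.ext e]
    exact hb'
  refine eq_of_le_of_card_ge le ?_
  rw [card_cj, h.toSy.toSx.card_A]
  refine card_le h.st₁ (by rintro _ ⟨b, rfl⟩; exact χ_N c b) fun y hy => ?_
  obtain ⟨b, hb, rfl⟩ := h.st₁.sur y hy
  exact ⟨_, ⟨⟨b, hb⟩, rfl⟩, χ_ρ c h.st₁ _⟩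

/-- PROOF. `t' = g t g⁻¹` swaps the factors.  `χ b = b * (t' b t'⁻¹)` is a homomorphism `B → C(t')` with perfect
range `A'`.  For an involution `b ∈ B`, `g⁻¹ (χ b) g ∈ A` (`res'`), so `A' ≤ cj(g, A)` (`Bs.le_of_inv`);
`ρ₁ (χ b) = ρ₁ b`, so `card A' ≥ card Y₀ = card A` (`card_A`) and `A' = cj(g, A)`. -/
theorem home_A {g : G} (h1 : g * t * g⁻¹ ∈ WfS.G1 B cj(t, B)) (h2 : g * t * g⁻¹ ∉ 𝐍[B]) (a : G) :
    a ∈ cj(g, A) ↔ ∃ b ∈ B, a = b * (g * t * g⁻¹ * b * (g * t * g⁻¹)⁻¹) := by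
  have c : cj(g * t * g⁻¹, B) ≤ 𝐂[B] := (h.swap h1 h2).1.le.trans h.c12
  rw [← h.home_χ c]
  exact ⟨fun ⟨b, e⟩ => ⟨b, b.2, e.symm⟩, fun ⟨b, hb, e⟩ => ⟨⟨b, hb⟩, e.symm⟩⟩

/-- PROOF. Let `z₁ ∈ B` be the involution with `ρ₁ z₁ = z` (`St.lift2`), `z' = χ z₁`.  `χ` maps the `2`-elements `b ∈ B` with
`ρ₁ b ∈ T` onto a subgroup `P` of `A' = cj(g, A)` with `card T` elements (or: `χ` of a Sylow subgroup of `B` centralising `z₁`) which centralises `z'`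
and `z₁` (`St.com_lift`; `t' b t'⁻¹ ∈ cj(t, B)` centralises `B`).  `cj(g⁻¹, P)` is Sylow in `A`; replace `g` by `g a`,
`a ∈ A`, such that `cj(g⁻¹, P) = pre T`; then `g⁻¹ z' g = j z` (`cz`, `uq`).  `s' = g⁻¹ z₁ g` is an involution
centralising `j T` with `s' t s'⁻¹ = t * j z`.  The same holds for `s = z₁` (case `g = 1`: `dg`, `uq`), which
centralises `O` (`cO`).  `uniq`: `s' = z₁` or `s' = z₁ * j z = t z₁ t⁻¹`. -/
theorem home_z {g : G} (h1 : g * t * g⁻¹ ∈ WfS.G1 B cj(t, B)) (h2 : g * t * g⁻¹ ∉ 𝐍[B]) :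
    ∃ a ∈ A, ∃ z₁ ∈ B, ρ₁ z₁ = D.z ∧
      ((g * a)⁻¹ * z₁ * (g * a) = z₁ ∨ (g * a)⁻¹ * z₁ * (g * a) = t * z₁ * t⁻¹) := by
  have c : cj(g * t * g⁻¹, B) ≤ 𝐂[B] := (h.swap h1 h2).1.le.trans h.c12
  have S := h.toSy.toSx
  have ss : g * t * g⁻¹ * (g * t * g⁻¹) = 1 := Wr.conj_sq h.tt
  obtain ⟨R, RB, R2, RT, TR⟩ := exists_R h.st₁ h.F.sylT
  obtain ⟨z₁, zR, ez⟩ := TR _ h.F.zT
  have zB := RB zR
  have tw : Tw z₁ := isPGroup_iff.1 R2 _ zR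
  have z2 : z₁ * z₁ = 1 := h.st₁.eq_one (mul_mem zB zB) (tw.mul tw rfl) (by
    rw [h.st₁.mul _ (le_normalizer zB) _ (le_normalizer zB), ez, h.F.zz])
  have zc : ∀ b ∈ B, ρ₁ b ∈ D.T → b * z₁ = z₁ * b := fun b hb e =>
    h.st₁.com_lift (le_normalizer hb) zB tw (by rw [ez]; exact h.F.zc _ e)
  let P : Subgroup G := (R.subgroupOf B).map (χ c)
  have P2 : IsPGroup 2 P := (Amb.isPGroup_subgroupOf R2 _).map _
  have PA : cj(g⁻¹, P) ≤ A := by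
    rw [← cj_inv_cj g A, ← h.home_χ c]
    exact cj_mono _ (map_le_range _ _)
  obtain ⟨a, ha, le⟩ := S.sylT.exists_cj_le (isPGroup_cj _ P2) PA
  have eq : cj(a, cj(g⁻¹, P)) = S.pre D.T := by
    refine eq_of_le_of_card_ge le ?_
    rw [card_cj, card_cj, S.card_pre h.F.sylT.le]
    refine card_le h.st₁ (by rintro _ ⟨b, -, rfl⟩; exact χ_N c b) fun y hy => ?_
    obtain ⟨b, hb, rfl⟩ := TR y hy
    exact ⟨_, ⟨⟨b, RB hb⟩, hb, rfl⟩, χ_ρ c h.st₁ _⟩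
  rw [← cj_mul] at eq
  obtain ⟨k, hk⟩ : ∃ k, k = a * g⁻¹ := ⟨_, rfl⟩
  rw [← hk] at eq
  have kt : k * (g * t * g⁻¹) * k⁻¹ = t := by
    rw [hk]
    calc _ = a * t * a⁻¹ := by group
      _ = t := by rw [h.toSy.tA ha]; group
  have cP : ∀ x ∈ P, Commute z₁ x ∧ Commute (χ c ⟨z₁, zB⟩) x := by
    rintro _ ⟨b, hb, rfl⟩
    have c1 := zc b b.2 (RT _ hb)
    refine ⟨(show Commute z₁ b from c1.symm).mul_right
      (Wr.mem_C.1 (c (conj_mem_cj _ b.2)) z₁ zB), ?_⟩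
    exact (show Commute (⟨z₁, zB⟩ : B) b from Subtype.ext c1.symm).map (χ c)
  have cT : ∀ y ∈ D.T, ∀ x, (∀ p ∈ P, Commute x p) → k * x * k⁻¹ * j y = j y * (k * x * k⁻¹) := by
    intro y hy x hx
    obtain ⟨p, hp, e⟩ := mem_cj_iff_exists.1 (eq.ge ((S.j_pre (h.F.sylT.le hy)).2 hy))
    rw [← e]
    calc _ = k * (x * p) * k⁻¹ := by group
      _ = _ := by rw [hx p hp]; group
  have m : k * χ c ⟨z₁, zB⟩ * k⁻¹ ∈ A :=
    (S.mem_pre.1 (eq.le (conj_mem_cj k ⟨⟨z₁, zB⟩, zR, rfl⟩))).1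
  have ej : k * χ c ⟨z₁, zB⟩ * k⁻¹ = j D.z := by
    rcases h.F.cz (ρ (k * χ c ⟨z₁, zB⟩ * k⁻¹)) (fun y hy =>
      ((S.jcom (le_normalizer m) (h.F.sylT.le hy)).1 (cT y hy _ fun p hp => (cP p hp).2)).symm)
      with e | e
    · have := conj_eq_one_iff.1 (h.inj _ m e)
      exact absurd (by rw [← ez, ← h.st₁.one, ← this, χ_ρ c h.st₁]) h.F.z1
    · exact S.uq m S.zA (by rw [e, h.ρj _ h.F.toBs.zY])
  have sw : ∀ s : G, s * s = 1 → z₁ * (s * z₁ * s⁻¹) = s * z₁ * s⁻¹ * z₁ →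
      z₁ * s * z₁⁻¹ = s * (z₁ * (s * z₁ * s⁻¹)) := fun s s2 e => by
    rw [e, inv_eq_of_mul_eq_one_right z2, inv_eq_of_mul_eq_one_right s2]
    calc _ = (s * s) * z₁ * s * z₁ := by rw [s2, one_mul]
      _ = _ := by group
  have e0 : z₁ * (t * z₁ * t⁻¹) = j D.z :=
    S.uq (h.dg _ zB).1 S.zA (by rw [(h.dg _ zB).2, ez, h.ρj _ h.F.toBs.zY])
  have := h.toSy.uniq (s := z₁) (s' := k * z₁ * k⁻¹) z2
    (by rw [sw t h.tt (h.com _ zB _ zB), e0])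
    (fun y hy => by
      obtain ⟨b, hb, e⟩ := h.Adec (h.jA _ (h.F.sylT.le hy))
      have e1 : ρ₁ b = y := by rw [← (h.dg b hb).2, e, h.ρj _ (h.F.sylT.le hy)]
      rw [← e]
      exact (show Commute z₁ b from (zc b hb (e1 ▸ hy)).symm).mul_right (h.com _ zB _ hb))
    (fun o ho => (Wr.mem_C.1 (h.cO zB) o ho).symm) (Wr.conj_sq z2)
    (by
      have e1 := sw _ ss (Wr.mem_C.1 (c (conj_mem_cj _ zB)) z₁ zB)
      rw [← ej, χ_app]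
      calc k * z₁ * k⁻¹ * t * (k * z₁ * k⁻¹)⁻¹
          = k * z₁ * k⁻¹ * (k * (g * t * g⁻¹) * k⁻¹) * (k * z₁ * k⁻¹)⁻¹ := by rw [kt]
        _ = k * (z₁ * (g * t * g⁻¹) * z₁⁻¹) * k⁻¹ := by group
        _ = (k * (g * t * g⁻¹) * k⁻¹) * (k * (z₁ * (g * t * g⁻¹ * z₁ * (g * t * g⁻¹)⁻¹)) * k⁻¹) := by
          rw [e1]; group
        _ = _ := by rw [kt])
    (fun y hy => cT y hy _ fun p hp => (cP p hp).1)
  refine ⟨a⁻¹, inv_mem ha, z₁, zB, ez, ?_⟩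
  rw [show (g * a⁻¹)⁻¹ * z₁ * (g * a⁻¹) = k * z₁ * k⁻¹ by rw [hk]; group]
  refine this.imp id fun e => ?_
  rw [e, ← e0, ← mul_assoc, z2, one_mul]

/-- PROOF. `N = cj((g a)⁻¹, B ⊔ cj(t, B))` contains `A` (`home_A`) and `z₁` or `t z₁ t⁻¹`.  `A` induces on `B` all inner
automorphisms (`dg`, `com`), so `N ⊓ B` is normalised by `B`; if `z₁ ∈ N`, `B ≤ N` (`Bs.qs`, `ρ₁ z₁ ≠ 1`), and then
`cj(t, B) ≤ N` by `dg`.  Symmetric in the other case.  Orders: `N = B ⊔ cj(t, B)`; `AB`. -/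
theorem home {g : G} (h1 : g * t * g⁻¹ ∈ WfS.G1 B cj(t, B)) (h2 : g * t * g⁻¹ ∉ 𝐍[B]) :
    g ∈ WfS.G1 B cj(t, B) := by
  obtain ⟨a, ha, z₁, zB, ez, e⟩ := h.home_z h1 h2
  obtain ⟨N, hN⟩ : ∃ N, N = cj((g * a)⁻¹, B ⊔ cj(t, B)) := ⟨_, rfl⟩
  have AN : A ≤ N := fun x hx => by
    obtain ⟨b, hb, e1⟩ := (h.home_A h1 h2 _).1
      (conj_mem_cj g (mul_mem (mul_mem ha hx) (inv_mem ha)))
    rw [hN, mem_cj, show (g * a)⁻¹⁻¹ * x * (g * a)⁻¹ = g * (a * x * a⁻¹) * g⁻¹ by group, e1]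
    exact mul_mem (mem_sup_left hb) (mem_sup_right ((h.swap h1 h2).1.le (conj_mem_cj _ hb)))
  have m : (g * a)⁻¹ * z₁ * (g * a) ∈ N := by
    have := conj_mem_cj (g * a)⁻¹ (mem_sup_left (T := cj(t, B)) zB)
    rwa [inv_inv, ← hN] at this
  have zN : z₁ ∈ N := by
    rcases e with e | e
    · exact e ▸ m
    · exact (mul_mem_cancel_right (e ▸ m)).1 (AN (h.dg _ zB).1)
  have BN : B ≤ N := by
    rcases h.qs (K := N ⊓ B) inf_le_right (fun b hb => mem_normalizer_of_cj_le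
      (cj_le_iff_forall.2 fun x hx => by
        have x2 := (mem_inf.1 hx).2
        refine mem_inf.2 ⟨?_, mul_mem (mul_mem hb x2) (inv_mem hb)⟩
        have d := AN (h.dg b hb).1
        have := mul_mem (mul_mem d (mem_inf.1 hx).1) (inv_mem d)
        rwa [show b * (t * b * t⁻¹) * x * (b * (t * b * t⁻¹))⁻¹
          = b * (t * b * t⁻¹ * x) * (b * (t * b * t⁻¹))⁻¹ by group, ← h.com x x2 b hb,
          show b * (x * (t * b * t⁻¹)) * (b * (t * b * t⁻¹))⁻¹ = b * x * b⁻¹ by group] at this))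
      with e1 | e1
    · exact absurd (by rw [← ez, h.st₁.kerC (e1 (mem_inf.2 ⟨zN, zB⟩))]) h.F.z1
    · exact e1.ge.trans inf_le_left
  have eq : B ⊔ cj(t, B) = N := eq_of_le_of_card_ge (sup_le BN (cj_le_iff_forall.2 fun b hb =>
    (mul_mem_cancel_left (BN hb)).1 (AN (h.dg b hb).1))) (by rw [hN, card_cj])
  have k : (g * a)⁻¹ ∈ WfS.G1 B cj(t, B) := cj_eq_iff.1 (hN.symm.trans eq.symm)
  exact (mul_mem_cancel_right (le_normalizer (h.AB ha))).1 (inv_mem_iff.1 k)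

end Fn

end Cfsg.Agent.M2W
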